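import Groth.Agent.S7382
import Groth.Agent.S0590
import Groth.Agent.S0591
import Groth.Agent.S9187
import Groth.Agent.Lib.Descend.Basic
import Groth.Agent.Lib.Descend.Stage
import Groth.Agent.Lib.CohFound.Chevalley
import Mathlib

/-!
# Chevalley's theorem without Noetherian hypotheses
-/

set_option autoImplicit false
set_option backward.isDefEq.respectTransparency.types false
set_option backward.defeqAttrib.useBackward true
universe u

open CategoryTheory CategoryTheory.Limits AlgebraicGeometry

namespace Groth.Agent.ChevAff4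

/-- The target of a surjective universally closed morphism from a separated scheme is separated. -/
theorem isSeparated_of_surjective {X S : Scheme.{u}} (f : X ⟶ S) [Surjective f] [UniversallyClosed f]
    [X.IsSeparated] : S.IsSeparated := by
  let a := terminal.from X
  let b := terminal.from S
  let h : pullback a a ⟶ pullback b b :=
    pullback.map a a b b f f (𝟙 _) (terminal.hom_ext _ _) (terminal.hom_ext _ _)
  haveI : UniversallyClosed h :=
    MorphismProperty.pullback_map (P := @UniversallyClosed) ‹_› ‹_› (terminal.hom_ext _ _) (terminal.hom_ext _ _)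
  haveI : IsSeparated a := Scheme.IsSeparated.isSeparated_terminal_from
  have hd : pullback.diagonal a ≫ h = f ≫ pullback.diagonal b := by
    apply pullback.hom_ext
    · simp only [h, pullback.map, Category.assoc]
      erw [pullback.lift_fst, pullback.diagonal_fst_assoc, pullback.diagonal_fst, Category.comp_id]
    · simp only [h, pullback.map, Category.assoc]
      erw [pullback.lift_snd, pullback.diagonal_snd_assoc, pullback.diagonal_snd, Category.comp_id]
  have hr : IsClosed (Set.range (pullback.diagonal b)) := by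
    have : Set.range (pullback.diagonal b) = Set.range (pullback.diagonal a ≫ h) := by
      rw [hd, Scheme.Hom.comp_base, TopCat.coe_comp, Set.range_comp, f.surjective.range_eq, Set.image_univ]
    rw [this]
    exact (Scheme.Hom.isClosedMap (pullback.diagonal a ≫ h)).isClosed_range
  exact ⟨⟨IsClosedImmersion.of_isPreimmersion _ hr⟩⟩

/-- The reduced case: finitely presented finite surjective morphisms. -/
theorem isAffine_of_finite_fp {X S : Scheme.{u}} (g : X ⟶ S) [IsFinite g] [LocallyOfFinitePresentation g]
    [Surjective g] [IsAffine X] [CompactSpace S] [QuasiSeparatedSpace S] : IsAffine S := by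
  obtain ⟨I, _, _, _, D, c, hc, hD, hft, ⟨e⟩⟩ := S0590.result S
  haveI : ∀ (i j : Iᵒᵖ) (f : i ⟶ j), IsAffineHom (D.map f) := hD
  haveI := fun i => (hft i).1
  have hN : ∀ i, IsNoetherian (D.obj i) := fun i => by
    haveI := (hft i).2
    haveI : IsNoetherianRing (ULift.{u} ℤ) := isNoetherianRing_of_ringEquiv ℤ ULift.ringEquiv.symm
    haveI : IsLocallyNoetherian (D.obj i) :=
      LocallyOfFiniteType.isLocallyNoetherian (Limits.IsTerminal.from specULiftZIsTerminal (D.obj i))
    exact ⟨⟩
  haveI : ∀ i, QuasiSeparatedSpace (D.obj i) := fun i => by haveI := hN i; infer_instance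
  let g' : X ⟶ c.pt := g ≫ e.inv
  obtain ⟨a, Xa, fa, qa, _, _, _, hsq⟩ := S0591.result D c hc X g'
  haveI : CompactSpace Xa := QuasiCompact.compactSpace_of_compactSpace fa
  haveI : QuasiSeparatedSpace Xa := quasiSeparatedSpace_of_quasiSeparated fa
  obtain ⟨b, φ, Xb, Yb, fb, gb, pY, pX, hYb, hXb, hfin⟩ :=
    S9187.result D c hc a fa (𝟙 _) g' (𝟙 _) (c.π.app a) qa
      (IsPullback.of_vert_isIso ⟨by simp⟩) hsq
  haveI : IsIso gb := MorphismProperty.of_isPullback (P := MorphismProperty.isomorphisms Scheme) hYb
    (show IsIso (𝟙 _) by infer_instance)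
  let fb' : Xb ⟶ D.obj b := fb ≫ gb
  haveI : IsFinite fb' := inferInstance
  have hsqb : IsPullback pX fb' fa (D.map φ) := by
    have := hXb
    refine IsPullback.of_iso this (Iso.refl _) (Iso.refl _) (asIso gb) (Iso.refl _) (by simp) (by simp [fb']) (by simp) ?_
    simpa using hYb.w
  have hsq' : IsPullback (hsqb.lift qa (g' ≫ c.π.app b) (by rw [hsq.w]; simp)) g' fb' (c.π.app b) := by
    refine IsPullback.of_right ?_ (hsqb.lift_snd ..) hsqb
    rw [hsqb.lift_fst, c.w φ]; exact hsq
  haveI := hN b
  haveI : LocallyOfFinitePresentation fb' := inferInstance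
  haveI : CompactSpace Xb := QuasiCompact.compactSpace_of_compactSpace fb'
  haveI : QuasiSeparatedSpace Xb := quasiSeparatedSpace_of_quasiSeparated fb'
  let F := Over.forget b
  let c' : Cone (F ⋙ D) := c.whisker F
  have hc' : IsLimit c' := (Functor.Initial.isLimitWhiskerEquiv F c).symm hc
  let t := Descend.overT D b
  have hq : ∀ k, c'.π.app k ≫ t.app k = c.π.app b := fun k => c.w k.hom
  haveI : Surjective g' := inferInstance
  obtain ⟨k₀, hk₀⟩ := Descend.exists_surjective hc' hq hsq'
  let E := Descend.pbDiagram (F ⋙ D) t fb'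
  let F' := Over.forget k₀
  let cE : Cone (F' ⋙ E) := (Descend.pbCone (F ⋙ D) t fb' c' hq hsq').whisker F'
  have hcE : IsLimit cE := (Functor.Initial.isLimitWhiskerEquiv F' _).symm
    (Descend.pbIsLimit (F ⋙ D) t fb' c' hq hsq' hc')
  haveI : ∀ {i j : Over k₀} (a : i ⟶ j), IsAffineHom ((F' ⋙ E).map a) :=
    fun a => Descend.pb_isAffineHom_map (F ⋙ D) t fb' a.left
  haveI : ∀ i, CompactSpace ((F' ⋙ E).obj i) := fun i => Descend.pb_compactSpace (F ⋙ D) t fb' i.left
  haveI : ∀ i, QuasiSeparatedSpace ((F' ⋙ E).obj i) := fun i => Descend.pb_quasiSeparatedSpace (F ⋙ D) t fb' i.left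
  haveI : IsAffine cE.pt := ‹IsAffine X›
  obtain ⟨l, hl⟩ := Scheme.exists_isAffine_of_isLimit (F' ⋙ E) cE hcE
  haveI : IsAffine (E.obj l.left) := hl
  haveI : Surjective (pullback.snd fb' (t.app k₀)) := hk₀
  haveI : Surjective (pullback.snd fb' (t.app l.left)) :=
    MorphismProperty.of_isPullback (P := @Surjective) (Descend.pbMap_isPullback (F ⋙ D) t fb' l.hom) ‹_›
  haveI : IsFinite (pullback.snd fb' (t.app l.left)) := MorphismProperty.pullback_snd (P := @IsFinite) fb' (t.app l.left) ‹IsFinite fb'›
  haveI := hN l.left.left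
  haveI : IsAffine (pullback fb' (t.app l.left)) := hl
  haveI : IsNoetherian ((F ⋙ D).obj l.left) := hN l.left.left
  haveI : IsAffine (D.obj l.left.left) :=
    (CohFound.isAffine_of_finite_surjective (pullback.snd fb' (t.app l.left)) : IsAffine ((F ⋙ D).obj l.left))
  haveI := isAffineHom_π_app D c hc l.left.left
  haveI : IsAffine c.pt := isAffine_of_isAffineHom (c.π.app l.left.left)
  exact IsAffine.of_isIso e.inv

/-- Chevalley: the target of a surjective universally closed morphism from an affine scheme is affine. -/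
theorem isAffine_of_surjective {X S : Scheme.{u}} (f : X ⟶ S) [IsAffine X] [Surjective f] [UniversallyClosed f] :
    IsAffine S := by
  haveI : S.IsSeparated := isSeparated_of_surjective f
  haveI : CompactSpace S := ⟨by rw [← f.surjective.range_eq]; exact isCompact_range f.continuous⟩
  haveI : IsAffineHom f := by
    haveI : IsAffineHom (f ≫ terminal.from S) := by
      rw [terminal.comp_from]; infer_instance
    exact IsAffineHom.of_comp f (terminal.from S)
  haveI : IsIntegralHom f := by rw [IsIntegralHom.eq_universallyClosed_inf_isAffineHom]; exact ⟨‹_›, ‹_›⟩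
  obtain ⟨I, _, _, _, D, c, hc, hD, ⟨e⟩⟩ := S7382.result f
  haveI : ∀ i, IsFinite (D.obj i).hom := fun i => (hD i).1
  haveI : ∀ i, LocallyOfFinitePresentation (D.obj i).hom := fun i => (hD i).2
  let c' : Cone (D ⋙ Over.forget S) := (Over.forget S).mapCone c
  haveI := IsCofiltered.isConnected Iᵒᵖ
  have hc' : IsLimit c' := isLimitOfPreserves (Over.forget S) hc
  haveI : ∀ {i j : Iᵒᵖ} (a : i ⟶ j), IsAffineHom ((D ⋙ Over.forget S).map a) := fun {i j} a => by
    haveI : IsAffineHom ((D.map a).left ≫ (D.obj j).hom) := by rw [Over.w]; infer_instance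
    exact IsAffineHom.of_comp (D.map a).left (D.obj j).hom
  haveI : ∀ i, CompactSpace ((D ⋙ Over.forget S).obj i) := fun i => by
    haveI : IsFinite (D.obj i).hom := (hD i).1
    exact (QuasiCompact.compactSpace_of_compactSpace (D.obj i).hom : CompactSpace (D.obj i).left)
  haveI : ∀ i, QuasiSeparatedSpace ((D ⋙ Over.forget S).obj i) := fun i => by
    haveI : IsFinite (D.obj i).hom := (hD i).1
    exact (quasiSeparatedSpace_of_quasiSeparated (D.obj i).hom : QuasiSeparatedSpace (D.obj i).left)
  let e' : c'.pt ≅ X := (Over.forget S).mapIso e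
  haveI : IsAffine c'.pt := IsAffine.of_isIso e'.hom
  obtain ⟨i, hi⟩ := Scheme.exists_isAffine_of_isLimit _ c' hc'
  haveI : IsAffine (D.obj i).left := hi
  haveI : Surjective (D.obj i).hom := by
    have h2 : ((e.inv ≫ c.π.app i).left) ≫ (D.obj i).hom = f := Over.w (e.inv ≫ c.π.app i)
    haveI : Surjective (((e.inv ≫ c.π.app i).left) ≫ (D.obj i).hom) := by rw [h2]; infer_instance
    exact Surjective.of_comp (e.inv ≫ c.π.app i).left _
  exact isAffine_of_finite_fp (D.obj i).hom

end Groth.Agent.ChevAff4
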